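import Mathlib.RingTheory.Localization.Integer
import Mathlib.RingTheory.Localization.FractionRing
import Mathlib.RingTheory.Localization.BaseChange
import Mathlib.Algebra.Module.LocalizedModule.IsLocalization
import Mathlib.LinearAlgebra.Dual.Lemmas
import Mathlib.RingTheory.Finiteness.Basic
import Mathlib.LinearAlgebra.Pi
import Mathlib.RingTheory.Flat.Localization

/-! Duals of finite modules over domains: extension of functionals up to a scalar, left exactness of
reflexivity. -/

set_option autoImplicit false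
universe u v w

namespace Groth.Agent.DomDual

open TensorProduct

variable {R : Type u} [CommRing R] [IsDomain R]

theorem exists_functional {Q : Type v} [AddCommGroup Q] [Module R Q] [Module.Finite R Q]
    (h : Q →ₗ[R] FractionRing R) :
    ∃ b : R, b ≠ 0 ∧ ∃ φ : Module.Dual R Q, ∀ q, algebraMap R (FractionRing R) (φ q) = b • h q := by
  classical
  obtain ⟨G, hG⟩ := (inferInstance : Module.Finite R Q).fg_top
  obtain ⟨⟨b, hb⟩, hint⟩ := IsLocalization.exist_integer_multiples_of_finset (nonZeroDivisors R) (G.image h)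
  have hrange : ∀ q, (b • h) q ∈ LinearMap.range (Algebra.linearMap R (FractionRing R)) := by
    intro q
    have hq : q ∈ Submodule.span R (G : Set Q) := hG ▸ Submodule.mem_top
    refine (Submodule.span_le (p := Submodule.comap (b • h) (LinearMap.range (Algebra.linearMap R (FractionRing R))))).2 (fun g hg => ?_) hq
    obtain ⟨a, ha⟩ := hint _ (Finset.mem_image_of_mem _ hg)
    exact ⟨a, ha⟩
  let e := LinearEquiv.ofInjective (Algebra.linearMap R (FractionRing R)) (IsFractionRing.injective R _)
  exact ⟨b, nonZeroDivisors.ne_zero hb, e.symm.toLinearMap.comp ((b • h).codRestrict _ hrange),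
    fun q => congrArg Subtype.val (e.apply_symm_apply ((b • h).codRestrict _ hrange q))⟩

theorem exists_dual_ne_zero {Q : Type v} [AddCommGroup Q] [Module R Q] [Module.Finite R Q]
    [Module.IsTorsionFree R Q] {q : Q} (hq : q ≠ 0) : ∃ φ : Module.Dual R Q, φ q ≠ 0 := by
  let K := FractionRing R
  let j : Q →ₗ[R] K ⊗[R] Q := TensorProduct.mk R K Q 1
  have : IsLocalizedModule (nonZeroDivisors R) j :=
    (isLocalizedModule_iff_isBaseChange (nonZeroDivisors R) K j).2 (TensorProduct.isBaseChange R Q K)
  have hj : j q ≠ 0 := fun h0 => by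
    obtain ⟨⟨s, hs⟩, hsq⟩ := (IsLocalizedModule.eq_zero_iff (nonZeroDivisors R) j).1 h0
    exact hq ((smul_eq_zero.1 hsq).resolve_left (nonZeroDivisors.ne_zero hs))
  obtain ⟨ψ, hψ⟩ : ∃ ψ : Module.Dual K (K ⊗[R] Q), ψ (j q) ≠ 0 := by
    by_contra h
    push Not at h
    exact hj ((Module.forall_dual_apply_eq_zero_iff K _).1 h)
  obtain ⟨b, hb, φ, hφ⟩ := exists_functional ((ψ.restrictScalars R).comp j)
  refine ⟨φ, fun h0 => ?_⟩
  have h1 : algebraMap R K b * ψ (j q) = 0 := by
    rw [← Algebra.smul_def]
    exact (hφ q).symm.trans ((congrArg _ h0).trans (map_zero _))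
  exact hψ ((mul_eq_zero.1 h1).resolve_left fun h => hb (IsFractionRing.injective R K (h.trans (map_zero _).symm)))

theorem eval_injective (Q : Type v) [AddCommGroup Q] [Module R Q] [Module.Finite R Q]
    [Module.IsTorsionFree R Q] : Function.Injective (Module.Dual.eval R Q) := by
  rw [injective_iff_map_eq_zero]
  intro q hq
  by_contra hne
  obtain ⟨φ, hφ⟩ := exists_dual_ne_zero (R := R) hne
  exact hφ (by rw [← Module.Dual.eval_apply R Q q φ, hq, LinearMap.zero_apply])

/-- Functionals extend along injections up to a nonzero scalar. -/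
theorem exists_extend {M : Type v} {M' : Type w} [AddCommGroup M] [Module R M] [AddCommGroup M'] [Module R M']
    [Module.Finite R M'] (f : M →ₗ[R] M') (hf : Function.Injective f) (ψ : Module.Dual R M) :
    ∃ a : R, a ≠ 0 ∧ ∃ φ : Module.Dual R M', φ.comp f = a • ψ := by
  let K := FractionRing R
  let fK := f.baseChange K
  have hfK : Function.Injective fK := Module.Flat.lTensor_preserves_injective_linearMap f hf
  let ψK : K ⊗[R] M →ₗ[K] K := (TensorProduct.AlgebraTensorModule.rid R K K).toLinearMap.comp (ψ.baseChange K)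
  obtain ⟨g, hg⟩ := fK.exists_leftInverse_of_injective (LinearMap.ker_eq_bot.2 hfK)
  obtain ⟨a, ha, φ, hφ⟩ := exists_functional (((ψK.comp g).restrictScalars R).comp (TensorProduct.mk R K M' 1))
  refine ⟨a, ha, φ, LinearMap.ext fun x => IsFractionRing.injective R K ?_⟩
  have h1 := hφ (f x)
  have h2 : g ((1 : K) ⊗ₜ[R] f x) = (1 : K) ⊗ₜ[R] x := LinearMap.congr_fun hg ((1 : K) ⊗ₜ[R] x)
  rw [LinearMap.comp_apply, h1, LinearMap.smul_apply, smul_eq_mul, map_mul]
  simp [ψK, h2, Algebra.smul_def]
  exact Or.inl rfl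

/-- The kernel of a map from a finite reflexive module to a finite torsion-free module is reflexive. -/
theorem isReflexive_of_exact {M : Type v} {M' : Type w} {M'' : Type w} [AddCommGroup M] [Module R M]
    [Module.Finite R M] [AddCommGroup M'] [Module R M'] [Module.Finite R M'] [AddCommGroup M''] [Module R M'']
    [Module.Finite R M''] (f : M →ₗ[R] M') (g : M' →ₗ[R] M'') (hf : Function.Injective f)
    (hfg : Function.Exact f g) [Module.IsReflexive R M'] [Module.IsTorsionFree R M''] : Module.IsReflexive R M := by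
  have hnat : ∀ x, Module.Dual.eval R M' (f x) = f.dualMap.dualMap (Module.Dual.eval R M x) := fun x => rfl
  refine ⟨⟨fun x y hxy => hf ((Module.bijective_dual_eval R M').1 (by rw [hnat, hnat, hxy])), fun ξ => ?_⟩⟩
  obtain ⟨m', hm'⟩ := (Module.bijective_dual_eval R M').2 (f.dualMap.dualMap ξ)
  have hgm : g m' = 0 := by
    refine eval_injective (R := R) M'' (LinearMap.ext fun χ => ?_)
    have h1 : g.dualMap χ = χ.comp g := rfl
    rw [Module.Dual.eval_apply, map_zero, LinearMap.zero_apply, ← LinearMap.comp_apply, ← h1,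
      ← Module.Dual.eval_apply R M' m', hm', LinearMap.dualMap_apply]
    rw [show f.dualMap (g.dualMap χ) = 0 from LinearMap.ext fun x => by
      show χ (g (f x)) = 0
      rw [hfg.apply_apply_eq_zero, map_zero], map_zero]
  obtain ⟨x, rfl⟩ := (hfg m').1 hgm
  refine ⟨x, LinearMap.ext fun ψ => ?_⟩
  obtain ⟨a, ha, φ, hφ⟩ := exists_extend f hf ψ
  have h2 := LinearMap.congr_fun (hnat x ▸ hm') φ
  rw [LinearMap.dualMap_apply, LinearMap.dualMap_apply, show f.dualMap φ = a • ψ from hφ, map_smul, map_smul] at h2
  exact smul_right_injective R ha h2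

theorem isReflexive_pi (N : Type v) [AddCommGroup N] [Module R N] [Module.IsReflexive R N] :
    ∀ a : ℕ, Module.IsReflexive R (Fin a → N)
  | 0 => ⟨⟨fun _ _ _ => Subsingleton.elim _ _, fun _ => ⟨0, Subsingleton.elim _ _⟩⟩⟩
  | a + 1 =>
    have := isReflexive_pi N a
    Module.equiv (Fin.consLinearEquiv R (fun _ : Fin (a + 1) => N))

end Groth.Agent.DomDual
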